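import Groth.Agent.GrpdInvBC.Main

/-! The three conclusions for an algebra over the invariants. -/

set_option autoImplicit false
set_option backward.isDefEq.respectTransparency false
set_option backward.isDefEq.respectTransparency.types false

universe u

open CategoryTheory CategoryTheory.Limits Polynomial AlgebraicGeometry
open scoped TensorProduct

noncomputable section

namespace Groth.Agent.GrpdInvBC

open GrpdLib

variable {D : AffData.{u}} {n : ℕ} (F : Frame D.s n) (K : Subring D.A) (hK : ∀ a, a ∈ K ↔ D.s a = D.t a)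
  (R : Type u) [CommRing R] [Algebra K R]

attribute [local instance] AffData.algB AffData.algC

/-- The comparison `A ⊗ R[X] → (A ⊗ R)[X]`. -/
def polyMap : D.A ⊗[K] R[X] →ₐ[K] (D.A ⊗[K] R)[X] :=
  Algebra.TensorProduct.lift ((CAlgHom : D.A ⊗[K] R →ₐ[D.A ⊗[K] R] (D.A ⊗[K] R)[X]).restrictScalars K |>.comp
      (Algebra.TensorProduct.includeLeft : D.A →ₐ[K] D.A ⊗[K] R))
    (Polynomial.mapAlgHom (Algebra.TensorProduct.includeRight : R →ₐ[K] D.A ⊗[K] R)) fun _ _ => Commute.all _ _

theorem polyMap_tmul (a : D.A) (q : R[X]) :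
    polyMap K R (a ⊗ₜ[K] q) = C (a ⊗ₜ[K] (1 : R)) *
      q.map (Algebra.TensorProduct.includeRight : R →ₐ[K] D.A ⊗[K] R).toRingHom := by
  simp [polyMap, CAlgHom]

/-- The comparison `A ⊗ R → A ⊗ R[X]`. -/
def constMap : D.A ⊗[K] R →ₐ[K] D.A ⊗[K] R[X] :=
  Algebra.TensorProduct.map (AlgHom.id K D.A) ((CAlgHom : R →ₐ[R] R[X]).restrictScalars K)

theorem polyMap_constMap (f : D.A ⊗[K] R) : polyMap K R (constMap K R f) = C f := by
  induction f using TensorProduct.induction_on with
  | zero => simp
  | add a b ha hb => rw [map_add, map_add, ha, hb, map_add]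
  | tmul a r =>
    rw [constMap, Algebra.TensorProduct.map_tmul, polyMap_tmul]
    simp [CAlgHom, ← C_mul]

include F in
theorem exists_polynomial (f : D.A ⊗[K] R) (hf : sR K R f = tR K hK R f) :
    ∃ (m : ℕ) (P : R[X]), 0 < m ∧
      P.map (Algebra.TensorProduct.includeRight : R →ₐ[K] D.A ⊗[K] R).toRingHom = (X - C f) ^ m := by
  obtain ⟨M, hM, h⟩ := exists_pow_mem F K hK
  let z : D.A ⊗[K] R[X] := (1 : D.A) ⊗ₜ[K] (X : R[X]) - constMap K R f
  let cB : D.B ⊗[K] R →ₐ[K] D.B ⊗[K] R[X] :=
    Algebra.TensorProduct.map (AlgHom.id K D.B) ((CAlgHom : R →ₐ[R] R[X]).restrictScalars K)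
  have hs : ∀ y, sR K R[X] (constMap K R y) = cB (sR K R y) := fun y => by
    induction y using TensorProduct.induction_on with
    | zero => simp
    | add a b ha hb => simp only [map_add, ha, hb]
    | tmul a r => simp [sR, AffData.tmap, constMap, cB]
  have ht : ∀ y, tR K hK R[X] (constMap K R y) = cB (tR K hK R y) := fun y => by
    induction y using TensorProduct.induction_on with
    | zero => simp
    | add a b ha hb => simp only [map_add, ha, hb]
    | tmul a r => simp [tR, AffData.tmap, constMap, cB]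
  have hz : sR K R[X] z = tR K hK R[X] z := by
    rw [map_sub, map_sub, hs, ht, hf]
    congr 1
    simp [sR, tR, AffData.tmap]
  obtain ⟨P, hP⟩ := h R[X] z hz
  refine ⟨M, P, hM, ?_⟩
  have := congrArg (polyMap K R) hP
  rw [map_pow, polyMap_tmul, map_sub, polyMap_tmul, polyMap_constMap] at this
  rw [show (1 : D.A) ⊗ₜ[K] (1 : R) = (1 : D.A ⊗[K] R) from rfl, C_1, one_mul, one_mul, Polynomial.map_X] at this
  exact this

theorem isNilpotent_of_eq_zero (hint : Algebra.IsIntegral K D.A) (c : R)
    (hc : (Algebra.TensorProduct.includeRight : R →ₐ[K] D.A ⊗[K] R) c = 0) : IsNilpotent c := by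
  rw [nilpotent_iff_mem_prime]
  intro p hp
  have hs : Surjective (Spec.map (CommRingCat.ofHom (algebraMap K D.A))) := ⟨fun q => by
    haveI := hint
    obtain ⟨Q, -, hQp, hQ⟩ := Ideal.exists_ideal_over_prime_of_isIntegral (R := K) (S := D.A) q.asIdeal ⊥ (by
      rw [← RingHom.ker_eq_comap_bot, (RingHom.injective_iff_ker_eq_bot _).1 Subtype.val_injective]
      exact bot_le)
    exact ⟨⟨Q, hQp⟩, PrimeSpectrum.ext hQ⟩⟩
  have hsq := isPullback_SpecMap_of_isPushout _ _ _ _ (CommRingCat.isPushout_tensorProduct K D.A R)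
  haveI : Surjective (Spec.map (CommRingCat.ofHom
      (Algebra.TensorProduct.includeRight : R →ₐ[K] D.A ⊗[K] R).toRingHom)) :=
    MorphismProperty.of_isPullback (P := @Surjective) hsq hs
  obtain ⟨q, hq⟩ := (Spec.map (CommRingCat.ofHom
      (Algebra.TensorProduct.includeRight : R →ₐ[K] D.A ⊗[K] R).toRingHom)).surjective ⟨p, hp⟩
  have h2 := congrArg PrimeSpectrum.asIdeal hq
  show c ∈ p
  rw [show p = _ from h2.symm]
  show (Algebra.TensorProduct.includeRight : R →ₐ[K] D.A ⊗[K] R) c ∈ q.asIdeal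
  rw [hc]
  exact q.asIdeal.zero_mem

theorem includeRight_injective [Module.Flat K R] :
    Function.Injective (Algebra.TensorProduct.includeRight : R →ₐ[K] D.A ⊗[K] R) :=
  Algebra.TensorProduct.includeRight_injective Subtype.val_injective

end Groth.Agent.GrpdInvBC
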