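import Groth.Agent.GrpdLib.BaseChange
import Groth.Agent.GrpdLib.Affine
import Mathlib

/-! Invariants of an affine finite locally free groupoid after an arbitrary base change. -/

set_option autoImplicit false
set_option backward.isDefEq.respectTransparency false
set_option backward.isDefEq.respectTransparency.types false

universe u

open CategoryTheory CategoryTheory.Limits Polynomial Matrix
open scoped TensorProduct

noncomputable section

namespace Groth.Agent.GrpdInvBC

open GrpdLib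

/-! ## The rank polynomial of a frame -/

section Rank

variable {A B : Type u} [CommRing A] [CommRing B] {α : A →+* B} {n : ℕ} (F : Frame α n)

/-- `det (1 + (T - 1) E)` for the idempotent matrix `E` of the unit. -/
def rankPoly : A[X] := (1 + (X - 1 : A[X]) • (F.mat 1).map C).det

theorem rankPoly_map {A' : Type u} [CommRing A'] (h : A →+* A') (x : A') :
    (rankPoly F).eval₂ h x = (1 + (x - 1) • (F.mat 1).map h).det := by
  rw [rankPoly, ← coe_eval₂RingHom, RingHom.map_det]
  congr 1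
  ext i j
  simp only [RingHom.mapMatrix_apply, Matrix.map_apply, Matrix.add_apply, Matrix.smul_apply, smul_eq_mul, map_add,
    map_mul, map_sub, Matrix.one_apply, apply_ite (eval₂RingHom h x), map_one, map_zero]
  simp

theorem rankPoly_mul {A' : Type u} [CommRing A'] (h : A →+* A') (x y : A') :
    (rankPoly F).eval₂ h x * (rankPoly F).eval₂ h y = (rankPoly F).eval₂ h (x * y) := by
  rw [rankPoly_map, rankPoly_map, rankPoly_map, ← det_mul]
  congr 1
  have hE : (F.mat 1).map h * (F.mat 1).map h = (F.mat 1).map h := by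
    rw [← Matrix.map_mul, ← F.mat_mul, one_mul]
  rw [add_mul, one_mul, mul_add, mul_one, Matrix.smul_mul, Matrix.mul_smul, hE, smul_smul,
    show x * y - 1 = (y - 1) + (x - 1) + (x - 1) * (y - 1) by ring, add_smul, add_smul]
  abel

theorem rankPoly_one {A' : Type u} [CommRing A'] (h : A →+* A') : (rankPoly F).eval₂ h 1 = 1 := by
  rw [rankPoly_map, sub_self, zero_smul, add_zero, det_one]

theorem norm_alpha (a : A) : F.norm (α a) = (rankPoly F).eval a := by
  rw [Frame.norm, ← eval₂_id, rankPoly_map]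
  congr 1
  rw [show α a - 1 = α (a - 1) * 1 by rw [map_sub, map_one, mul_one], F.mat_smul]
  congr 2

theorem rankPoly_coeff_mul (i j : ℕ) :
    (rankPoly F).coeff i * (rankPoly F).coeff j = if i = j then (rankPoly F).coeff i else 0 := by
  have h := rankPoly_mul F ((C : A[X] →+* A[X][X]).comp C) (C X) X
  have e : ∀ y : A[X][X], (rankPoly F).eval₂ ((C : A[X] →+* A[X][X]).comp C) y =
      (rankPoly F).sum fun m a => C (C a) * y ^ m := fun y => by rw [eval₂_eq_sum]; rfl
  have h1 : (rankPoly F).eval₂ ((C : A[X] →+* A[X][X]).comp C) (C X) = C (rankPoly F) := by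
    rw [← hom_eval₂ _ C (C : A[X] →+* A[X][X]) X, eval₂_C_X]
  have h2 : (rankPoly F).eval₂ ((C : A[X] →+* A[X][X]).comp C) X = (rankPoly F).map C := by
    rw [Polynomial.map, ← eval₂_map, eval₂_C_X]
  have h3 := congrArg (fun q : A[X][X] => (q.coeff j).coeff i) h
  simp only [h1, h2, coeff_C_mul, coeff_map, coeff_mul_C] at h3
  rw [h3, e, Polynomial.sum, finsetSum_coeff, finsetSum_coeff]
  simp only [mul_pow, ← C_pow, ← mul_assoc, ← C_mul, coeff_C_mul, coeff_X_pow, mul_ite, mul_one, mul_zero]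
  rw [Finset.sum_eq_single j]
  · rw [if_pos rfl, coeff_C_mul, coeff_X_pow]
    split_ifs with hij
    · rw [mul_one, hij]
    · rw [mul_zero]
  · intro b _ hb
    rw [if_neg (Ne.symm hb)]
    simp
  · intro hj
    rw [Polynomial.notMem_support_iff.1 hj]
    simp

theorem rankPoly_isMap {A' B' : Type u} [CommRing A'] [CommRing B'] {α' : A' →+* B'} {F' : Frame α' n}
    {h : A →+* A'} {g : B →+* B'} (H : Frame.IsMap F F' h g) : rankPoly F' = (rankPoly F).map h := by
  rw [show (rankPoly F).map h = (rankPoly F).eval₂ (C.comp h) X from rfl, rankPoly_map, rankPoly, ← map_one g,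
    H.mat, Matrix.map_map]
  rfl

theorem eval_pow_eq (z : A) (r : ℕ) : ∀ k, (rankPoly F).coeff r * ((rankPoly F).eval z) ^ k =
    (rankPoly F).coeff r * z ^ (r * k)
  | 0 => by simp
  | k + 1 => by
    have h1 : (rankPoly F).coeff r * (rankPoly F).eval z = (rankPoly F).coeff r * z ^ r := by
      rw [eval_eq_sum, Polynomial.sum, Finset.mul_sum]
      simp only [← mul_assoc, rankPoly_coeff_mul, ite_mul, zero_mul]
      rw [Finset.sum_ite_eq]
      split_ifs with hr
      · rfl
      · rw [Polynomial.notMem_support_iff.1 hr, zero_mul]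
    rw [pow_succ, ← mul_assoc, eval_pow_eq z r k, mul_right_comm, h1, Nat.mul_succ, pow_add]
    ring

theorem combine (z : A) (M : ℕ) (h0 : (rankPoly F).coeff 0 = 0)
    (hM : ∀ r, r ≠ 0 → r ∈ (rankPoly F).support → r ∣ M) :
    ∑ r ∈ (rankPoly F).support, (rankPoly F).coeff r * ((rankPoly F).eval z) ^ (M / r) = z ^ M := by
  have hsum : ∑ r ∈ (rankPoly F).support, (rankPoly F).coeff r = 1 := by
    have := rankPoly_one F (RingHom.id A)
    rw [eval₂_id, eval_eq_sum, Polynomial.sum] at this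
    simpa using this
  conv_rhs => rw [← one_mul (z ^ M), ← hsum, Finset.sum_mul]
  refine Finset.sum_congr rfl fun r hr => ?_
  rw [eval_pow_eq]
  rcases eq_or_ne r 0 with rfl | hr0
  · rw [h0]; simp
  · rw [Nat.mul_div_cancel' (hM r hr0 hr)]

end Rank

/-! ## Groupoid data -/

variable {D : AffData.{u}} {n : ℕ} (F : Frame D.s n)

theorem rankPoly_map_eq : (rankPoly F).map D.t = (rankPoly F).map D.s := by
  obtain ⟨F₁, H₁⟩ := F.exists_isMap D.t D.p₁ D.sq₁
  obtain ⟨F₂, H₂⟩ := F.exists_isMap D.s D.m D.sq₂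
  have e : ∀ h : D.A →+* D.B, (rankPoly F).map h = (1 + (X - 1 : D.B[X]) • ((F.mat 1).map h).map C).det := fun h => by
    rw [show (rankPoly F).map h = (rankPoly F).eval₂ (C.comp h) X from rfl, rankPoly_map, Matrix.map_map]
    rfl
  rw [e, e, ← H₁.mat, ← H₂.mat, map_one, map_one, F₁.mat_eq_mul F₂, Matrix.map_mul, ← Matrix.smul_mul,
    det_one_add_mul_comm, Matrix.mul_smul, ← Matrix.map_mul, F₁.mul_eq_mat F₂]

theorem rankPoly_coeff_zero : (rankPoly F).coeff 0 = 0 := by
  have h := F.norm_eq_zero D.e (RingHom.id D.A) D.e_s (b := 0) (map_zero _)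
  rw [RingHom.id_apply, ← map_zero D.s, norm_alpha] at h
  rw [coeff_zero_eq_eval_zero]
  exact h

variable (K : Subring D.A) (hK : ∀ a, a ∈ K ↔ D.s a = D.t a)

attribute [local instance] AffData.algB AffData.algC

include hK in
theorem coeff_rankPoly_mem (r : ℕ) : (rankPoly F).coeff r ∈ K := by
  refine (hK _).2 ?_
  have := congrArg (fun q => q.coeff r) (rankPoly_map_eq F)
  simpa only [coeff_map] using this.symm

variable (R : Type u) [CommRing R] [Algebra K R]

/-- `s` after base change. -/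
abbrev sR : D.A ⊗[K] R →+* D.B ⊗[K] R := AffData.tmap R (AffData.sK D K)

/-- `t` after base change. -/
abbrev tR : D.A ⊗[K] R →+* D.B ⊗[K] R := AffData.tmap R (AffData.tK D K hK)

theorem exists_frame_baseChange :
    ∃ F' : Frame (sR K R) n,
      Frame.IsMap F F' (Algebra.TensorProduct.includeLeft : D.A →ₐ[K] D.A ⊗[K] R).toRingHom
        (Algebra.TensorProduct.includeLeft : D.B →ₐ[K] D.B ⊗[K] R).toRingHom :=
  F.exists_isMap _ _ (AffData.isPushout_tmap R (AffData.sK D K)).flip

/-- The norm of any element of the base change comes from the coefficients. -/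
theorem norm_t_mem {F' : Frame (sR K R) n}
    (H : Frame.IsMap F F' (Algebra.TensorProduct.includeLeft : D.A →ₐ[K] D.A ⊗[K] R).toRingHom
      (Algebra.TensorProduct.includeLeft : D.B →ₐ[K] D.B ⊗[K] R).toRingHom)
    (z : D.A ⊗[K] R) : ∃ w : R, (1 : D.A) ⊗ₜ[K] w = F'.norm (tR K hK R z) := by
  classical
  obtain ⟨T, rfl⟩ := TensorProduct.exists_finset z
  let R₀ := MvPolynomial T K
  let ψ : R₀ →ₐ[K] R := MvPolynomial.aeval fun i => i.1.2
  let φA : D.A ⊗[K] R₀ →ₐ[K] D.A ⊗[K] R := Algebra.TensorProduct.map (AlgHom.id K D.A) ψ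
  let φB : D.B ⊗[K] R₀ →ₐ[K] D.B ⊗[K] R := Algebra.TensorProduct.map (AlgHom.id K D.B) ψ
  obtain ⟨F₀, H₀⟩ := exists_frame_baseChange F K R₀
  have hmap : Frame.IsMap F₀ F' φA.toRingHom φB.toRingHom := by
    refine ⟨fun i => ?_, fun i x => ?_⟩
    · rw [H.u_eq, H₀.u_eq]
      show (F.u i) ⊗ₜ[K] (1 : R) = φB ((F.u i) ⊗ₜ[K] (1 : R₀))
      simp [φB]
    · induction x using TensorProduct.induction_on with
      | zero => simp
      | add a b ha hb => rw [map_add, map_add, map_add, map_add, ha, hb]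
      | tmul b r =>
        have e0 : (b ⊗ₜ[K] r : D.B ⊗[K] R₀) = (sR K R₀) ((1 : D.A) ⊗ₜ[K] r) *
            (Algebra.TensorProduct.includeLeft : D.B →ₐ[K] D.B ⊗[K] R₀).toRingHom b := by
          show b ⊗ₜ[K] r = (Algebra.TensorProduct.map (AffData.sK D K) (AlgHom.id K R₀)) ((1 : D.A) ⊗ₜ[K] r) *
            b ⊗ₜ[K] (1 : R₀)
          simp
        have e1 : φB.toRingHom (b ⊗ₜ[K] r) = (sR K R) ((1 : D.A) ⊗ₜ[K] ψ r) *
            (Algebra.TensorProduct.includeLeft : D.B →ₐ[K] D.B ⊗[K] R).toRingHom b := by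
          show φB (b ⊗ₜ[K] r) = (Algebra.TensorProduct.map (AffData.sK D K) (AlgHom.id K R)) ((1 : D.A) ⊗ₜ[K] ψ r) *
            b ⊗ₜ[K] (1 : R)
          simp [φB]
        rw [e1, F'.v_smul, H.v_eq, e0, F₀.v_smul, H₀.v_eq, map_mul]
        show _ = φA ((1 : D.A) ⊗ₜ[K] r) * φA ((F.v i b) ⊗ₜ[K] (1 : R₀))
        simp [φA]
  let z₀ : D.A ⊗[K] R₀ := ∑ i : T, i.1.1 ⊗ₜ[K] MvPolynomial.X i
  obtain ⟨w₀, hw₀⟩ := D.mem_range_includeRight K hK R₀ (F₀.norm (tR K hK R₀ z₀))
    (AffData.t_norm_eq (D := D.baseChange K hK R₀) F₀ z₀).symm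
  refine ⟨ψ w₀, ?_⟩
  have hz : φA z₀ = ∑ i ∈ T, i.1 ⊗ₜ[K] i.2 := by
    simp only [z₀, map_sum, φA, Algebra.TensorProduct.map_tmul, AlgHom.coe_id, id_eq]
    rw [← Finset.sum_coe_sort T (fun i => i.1 ⊗ₜ[K] i.2)]
    refine Finset.sum_congr rfl fun i _ => ?_
    congr 1
    exact MvPolynomial.aeval_X _ i
  have ht : ∀ x, φB.toRingHom (tR K hK R₀ x) = tR K hK R (φA x) := by
    intro x
    show φB ((Algebra.TensorProduct.map (AffData.tK D K hK) (AlgHom.id K R₀)) x) =
      (Algebra.TensorProduct.map (AffData.tK D K hK) (AlgHom.id K R)) (φA x)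
    induction x using TensorProduct.induction_on with
    | zero => simp
    | add a b ha hb => rw [map_add, map_add, map_add, map_add, ha, hb]
    | tmul a r => simp [φA, φB]
  rw [← hz, ← ht, hmap.norm, ← hw₀]
  simp [φA]

include F in
/-- Powers of invariant elements come from the coefficients. -/
theorem exists_pow_mem : ∃ M : ℕ, 0 < M ∧ ∀ (R : Type u) [CommRing R] [Algebra K R] (z : D.A ⊗[K] R),
    sR K R z = tR K hK R z → ∃ w : R, (1 : D.A) ⊗ₜ[K] w = z ^ M := by
  classical
  refine ⟨((rankPoly F).natDegree).factorial, Nat.factorial_pos _, fun R _ _ z hz => ?_⟩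
  obtain ⟨F', H⟩ := exists_frame_baseChange F K R
  obtain ⟨w, hw⟩ := norm_t_mem F K hK R H z
  rw [← hz, norm_alpha] at hw
  have hp := rankPoly_isMap F H
  have hco : ∀ r, ∃ c : R, (1 : D.A) ⊗ₜ[K] c = (rankPoly F').coeff r := fun r => by
    refine ⟨algebraMap K R ⟨_, coeff_rankPoly_mem F K hK r⟩, ?_⟩
    rw [hp, coeff_map, Algebra.algebraMap_eq_smul_one, ← TensorProduct.smul_tmul]
    show _ = ((rankPoly F).coeff r) ⊗ₜ[K] (1 : R)
    congr 1
    exact mul_one _
  choose c hc using hco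
  refine ⟨∑ r ∈ (rankPoly F').support, c r * w ^ (((rankPoly F).natDegree).factorial / r), ?_⟩
  rw [← combine F' z _ (rankPoly_coeff_zero (D := D.baseChange K hK R) F') fun r hr0 hr => ?_]
  · let ι : R →ₐ[K] D.A ⊗[K] R := Algebra.TensorProduct.includeRight
    show ι _ = _
    rw [map_sum]
    refine Finset.sum_congr rfl fun r _ => ?_
    rw [map_mul, map_pow]
    exact congrArg₂ (fun a b => a * b ^ _) (hc r) hw
  · refine Nat.dvd_factorial (Nat.pos_of_ne_zero hr0) ?_
    rw [hp] at hr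
    exact (le_natDegree_of_mem_supp r hr).trans natDegree_map_le

end Groth.Agent.GrpdInvBC
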